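import Mathlib

/-!
# Brauer–Suzuki–Wall: shared definitions for the ladder (S3282, S0508)
-/

set_option autoImplicit false

namespace Cfsg.Agent.Lib.Helper73.BSW

/-- The Brauer–Suzuki–Wall configuration: `H = C_G(t)`, `K` abelian of index 2 in `H` with unique
involution `t`, elements of `H` outside `K` are involutions inverting `K`, `K` is TI with normaliser
`H`, one class of involutions. -/
structure Cfg {G : Type*} [Group G] (K H : Subgroup G) (t : G) : Prop where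
  ot : orderOf t = 2
  tK : t ∈ K
  comm : ∀ a ∈ K, ∀ b ∈ K, a * b = b * a
  KH : K ≤ H
  cent : Subgroup.centralizer ({t} : Set G) = H
  ex : ∃ s ∈ H, s ∉ K
  mulK : ∀ x ∈ H, x ∉ K → ∀ y ∈ H, y ∉ K → x * y ∈ K
  invol : ∀ x ∈ H, x ∉ K → orderOf x = 2
  inv : ∀ x ∈ H, x ∉ K → ∀ c ∈ K, x * c * x⁻¹ = c⁻¹
  uniq : ∀ c ∈ K, orderOf c = 2 → c = t
  ti : ∀ c ∈ K, c ≠ 1 → ∀ g : G, g * c * g⁻¹ ∈ K → g ∈ H
  cj : ∀ s : G, orderOf s = 2 → IsConj t s

/-- `y` is conjugate into `K`. -/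
def ConjIn {G : Type*} [Group G] (K : Subgroup G) (y : G) : Prop := ∃ g : G, g * y * g⁻¹ ∈ K

/-- `y` is inverted by an involution. -/
def SReal {G : Type*} [Group G] (y : G) : Prop := ∃ u : G, orderOf u = 2 ∧ u * y * u⁻¹ = y⁻¹

/-- number of ways of writing `y` as a product of two involutions. -/
noncomputable def aCount {G : Type*} [Group G] (y : G) : ℕ :=
  Nat.card {u : G // orderOf u = 2 ∧ orderOf (u⁻¹ * y) = 2}

open Classical in
/-- The output of the character theory. -/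
structure CharOut {G : Type*} [Group G] [Fintype G] (K : Subgroup G) (q : ℕ) (δ : ℤ) (X : G → ℤ) :
    Prop where
  hδ : δ = 1 ∨ δ = -1
  cardK : 2 * (Nat.card K : ℤ) = q - δ
  cardG : 2 * (Nat.card G : ℤ) = q * (q + 1) * (q - 1)
  X1 : X 1 = q
  Xcl : ∀ g x : G, X (g * x * g⁻¹) = X x
  dvd : ∀ (A : Subgroup G) (x : ℤ), (∀ a ∈ A, a ≠ 1 → X a = x) → (Nat.card A : ℤ) ∣ q - x
  aform : ∀ y : G, ¬ ConjIn K y → 2 * (aCount y : ℤ) = (1 + δ) * q + (q - 1) * X y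
  sumY : ∑ y : G, (if ConjIn K y then 0 else (X y + δ) ^ 2) = (q : ℤ) ^ 2 - 1

/-- The conclusion of S3282. -/
def Concl (G : Type*) [Group G] : Prop :=
  ∃ Q D : Subgroup G, 2 * Nat.card G = Nat.card ↥Q * (Nat.card ↥Q + 1) * (Nat.card ↥Q - 1) ∧
      (∀ x ∈ Q, x ≠ 1 → Subgroup.centralizer ({x} : Set G) = Q) ∧
      IsMulCommutative ↥D ∧ 2 * Nat.card ↥D + 1 = Nat.card ↥Q ∧ Q ⊓ D = ⊥ ∧
      Subgroup.normalizer (Q : Set G) = Q ⊔ D ∧
      ∀ X : Subgroup G, X ≤ D → X ≠ ⊥ →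
        Subgroup.normalizer (X : Set G) = Subgroup.normalizer (D : Set G) ∧
        ∃ u : G, orderOf u = 2 ∧ u ∉ D ∧ (∀ d ∈ D, u * d * u⁻¹ = d⁻¹) ∧
          Subgroup.normalizer (D : Set G) = D ⊔ Subgroup.zpowers u

/-- The last clause of S3282 for a subgroup `D`. -/
def DProp {G : Type*} [Group G] (D : Subgroup G) : Prop :=
  ∀ X : Subgroup G, X ≤ D → X ≠ ⊥ →
        Subgroup.normalizer (X : Set G) = Subgroup.normalizer (D : Set G) ∧
        ∃ u : G, orderOf u = 2 ∧ u ∉ D ∧ (∀ d ∈ D, u * d * u⁻¹ = d⁻¹) ∧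
          Subgroup.normalizer (D : Set G) = D ⊔ Subgroup.zpowers u

/-- The abstract integer data extracted from the character table: `I` = irreducible characters,
`L` = non-principal linear characters of `K`, `c l χ = ⟨Ind_K^G (1 - l), χ⟩`, `d χ = χ 1`,
`sg l = l t`, `m = |K|`, `n = |G : H|`. -/
structure CData {I L : Type*} [Fintype I] [Fintype L] [DecidableEq I] [DecidableEq L]
    (m n : ℤ) (bar : L → L) (tau : L) (one : I) (c : L → I → ℤ) (d : I → ℤ) (sg : L → ℤ) :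
    Prop where
  bar_bar : ∀ l, bar (bar l) = l
  bar_eq : ∀ l, bar l = l ↔ l = tau
  cardL : (Fintype.card L : ℤ) = m - 1
  c_bar : ∀ l χ, c (bar l) χ = c l χ
  c_one : ∀ l, c l one = 1
  d_pos : ∀ χ, 0 < d χ
  d_one : d one = 1
  gram : ∀ l k, ∑ χ, c l χ * c k χ = 2 + (if l = k then 1 else 0) + (if l = bar k then 1 else 0)
  deg : ∀ l, ∑ χ, c l χ * d χ = 0
  sg_sq : ∀ l, sg l = 1 ∨ sg l = -1
  sg_bar : ∀ l, sg (bar l) = sg l
  sg_sum : ∑ l, sg l = -1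
  frel : ∀ l, (n : ℚ) * ∑ χ, (c l χ : ℚ) * ((∑ k, c k χ * sg k : ℤ) : ℚ) ^ 2 / (d χ : ℚ)
    = 2 * (m : ℚ) ^ 2
  sumsq : ∑ χ, d χ ^ 2 = 2 * m * n
  integ : ∀ χ, 2 * m ∣ d χ + ∑ k, c k χ - m * ∑ k, c k χ * sg k

end Cfsg.Agent.Lib.Helper73.BSW
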