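import Mathlib
import Cfsg.Prelude.Def_Characters
import Cfsg.Agent.Lib.Helper73.BSW.Defs

/-!
# Brauer–Suzuki–Wall: shared character-theoretic definitions
-/

set_option autoImplicit false

namespace Cfsg.Agent.Lib.Helper73.BSW

open Cfsg

/-- `Ind_K^G (1 - lam)`. -/
noncomputable def Phi {G : Type*} [Group G] [Fintype G] (K : Subgroup G) (lam : K →* ℂˣ) : G → ℂ :=
  indFun K (fun k => 1 - ((lam k : ℂˣ) : ℂ))

end Cfsg.Agent.Lib.Helper73.BSW
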