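import Mathlib
import Cfsg.Agent.Lib.Helper73.BSW.Defs

/-!
# Brauer–Suzuki–Wall ladder, wave 2: statements of the steps of the case `δ = -1`
-/

set_option autoImplicit false

namespace Cfsg.Agent.Lib.Helper73.BSW

variable {G : Type*} [Group G]

/-- not conjugate into `K` and not strongly real. -/
def InU (K : Subgroup G) (y : G) : Prop := ¬ ConjIn K y ∧ ¬ SReal y

/-- strongly real elements outside the conjugates of `K`. -/
def StA (K : Subgroup G) (q : ℕ) (X : G → ℤ) : Prop :=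
  ∀ y : G, ¬ ConjIn K y → SReal y →
    X y = 1 ∧ 2 * Nat.card (Subgroup.centralizer ({y} : Set G)) + 1 = q

def StB (K : Subgroup G) (q : ℕ) : Prop := Nat.card {y : G // InU K y} = q ^ 2 - 1

def StC (K : Subgroup G) (t : G) : Prop := ∃ y : G, ¬ ConjIn K y ∧ t * y * t⁻¹ = y⁻¹

def StD (K : Subgroup G) : Prop :=
  ∀ y : G, ¬ ConjIn K y → SReal y → DProp (Subgroup.centralizer ({y} : Set G))

def StE (K : Subgroup G) (q : ℕ) : Prop :=
  ∀ y : G, InU K y → Nat.card (Subgroup.centralizer ({y} : Set G)) = q ∧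
    (∀ z ∈ Subgroup.centralizer ({y} : Set G), z ≠ 1 → InU K z) ∧
    ∀ w : G, InU K w → IsConj w y ∨ IsConj w y⁻¹

def StF (K : Subgroup G) (q p : ℕ) : Prop :=
  p.Prime ∧ (∃ f : ℕ, q = p ^ f) ∧ ∀ y : G, InU K y → orderOf y = p

def StT (K : Subgroup G) : Prop :=
  ∀ z : G, z ≠ 1 → Odd (orderOf z) → ¬ InU K z →
    ∃ Bz : Subgroup G, z ∈ Bz ∧ (∀ a ∈ Bz, ∀ b ∈ Bz, a * b = b * a) ∧
      (∀ b ∈ Bz, b ≠ 1 → Odd (orderOf b) → Subgroup.centralizer ({b} : Set G) = Bz) ∧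
      ∀ g ∈ Subgroup.normalizer (Bz : Set G), Odd (orderOf g) → g ∈ Bz

def StG (G : Type*) [Group G] (p : ℕ) : Prop :=
  ∀ V : Subgroup G, IsPGroup p V → V ≠ ⊥ →
    ∀ S S' : Sylow p (Subgroup.normalizer (V : Set G)), S = S'

end Cfsg.Agent.Lib.Helper73.BSW
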