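import Mathlib
import Cfsg.Prelude.Def_Characters
import Cfsg.Agent.Lib.Helper4.CharDecomp
import Cfsg.Agent.Lib.Helper73.BSW.Defs
import Cfsg.Agent.Lib.Helper73.BSW.CharDefs
import Cfsg.Agent.Lib.Helper96.BSWMatrix
import Cfsg.Agent.Lib.Helper16.BSWComb
import Cfsg.Agent.Lib.Helper16.BSWArith
import Cfsg.Agent.Lib.Helper19.BSWAval
import Cfsg.Agent.Lib.Helper4.BSWCout

/-!
# Brauer–Suzuki–Wall: the character-theoretic output
-/

set_option autoImplicit false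

namespace Cfsg.Agent.Lib.Helper73.BSW

open Cfsg
open scoped ComplexConjugate

universe u

variable {G : Type u} [Group G] [Fintype G] {K H : Subgroup G} {t : G}

/-- The character theory of the Brauer–Suzuki–Wall configuration: order of the group, and an
integer-valued irreducible character `X` of degree `q = 2|K| ± 1` controlling the number of ways of
writing an element as a product of two involutions. -/
theorem char_main (B : Cfg K H t) (h4 : 4 ≤ Nat.card K) :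
    ∃ (q : ℕ) (δ : ℤ) (Xz : G → ℤ), CharOut K q δ Xz := by
  classical
  have : Finite (IrrCharacter G) := Cfsg.Agent.Lib.Helper4.finite_irrCharacter
  have : Fintype (IrrCharacter G) := Fintype.ofFinite _
  let one : IrrCharacter G := ⟨fun _ => 1, Cfsg.Agent.Lib.Helper4.isIrrCharacter_one⟩
  obtain ⟨L, iL, dL, bar, tau, c, d, sg, D, h1, ht, hs, hk⟩ :=
    Cfsg.Agent.Lib.Helper96.BSW.matrix B one rfl
  have hm : (4 : ℤ) ≤ (Nat.card K : ℤ) := by exact_mod_cast h4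
  have hn : (0 : ℤ) < (H.index : ℤ) := by
    have : H.index ≠ 0 := Subgroup.index_ne_zero_of_finite
    exact_mod_cast Nat.pos_of_ne_zero this
  obtain ⟨X, δ, hX, hδ, hc⟩ := Cfsg.Agent.Lib.Helper16.comb D hm
  obtain ⟨a1, a2, a3⟩ := Cfsg.Agent.Lib.Helper16.arith D hm hn X δ hX hδ hc
  have hdpos := D.d_pos X
  obtain ⟨q, hq⟩ : ∃ q : ℕ, d X = q := ⟨(d X).toNat, (Int.toNat_of_nonneg hdpos.le).symm⟩
  have hX1 : (X : G → ℂ) ≠ fun _ => 1 := fun h => hX (Subtype.ext h)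
  have hq1 : (X : G → ℂ) 1 = q := by rw [h1 X, hq]; simp
  have hK : 2 * (Nat.card K : ℤ) = q - δ := by rw [← hq]; exact a1
  have hn2 : 2 * (H.index : ℤ) = q * (q + δ) := by rw [← hq]; exact a2
  have hXK : ∀ x ∈ K, x ≠ 1 → (X : G → ℂ) x = δ := hk X δ hc
  have hdag : ∀ χ : G → ℂ, IsIrrCharacter G χ → χ ≠ (fun _ => 1) → χ ≠ (X : G → ℂ) →
      (χ t) ^ 2 * ((q : ℂ) + δ) = -2 * δ * χ 1 * ∑ᶠ x : K, (if x = 1 then 0 else χ x) := by
    intro χ hχ hχ1 hχX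
    have e := a3 ⟨χ, hχ⟩ (fun h => hχ1 (congrArg Subtype.val h))
      (fun h => hχX (congrArg Subtype.val h))
    have e1 := h1 ⟨χ, hχ⟩
    have e2 := ht ⟨χ, hχ⟩
    have e3 := hs ⟨χ, hχ⟩
    simp only at e1 e2 e3
    rw [e1, e2, e3]
    rw [hq] at e
    have e' : (((∑ k, c k ⟨χ, hχ⟩ * sg k) ^ 2 * ((q : ℤ) + δ) : ℤ) : ℂ)
        = ((-2 * δ * d ⟨χ, hχ⟩ * ∑ k, c k ⟨χ, hχ⟩ : ℤ) : ℂ) := by rw [e]
    push_cast at e' ⊢
    linear_combination e'
  have hval := Cfsg.Agent.Lib.Helper19.BSW.aform_val B (X : G → ℂ) X.2 hX1 q δ hδ hq1 hK hn2 hXK hdag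
  obtain ⟨Xz, hXz⟩ :=
    Cfsg.Agent.Lib.Helper4.BSW.charOut_of_val B (X : G → ℂ) X.2 hX1 q δ hδ hq1 h4 hK hn2 hXK hval
  exact ⟨q, δ, Xz, hXz⟩

end Cfsg.Agent.Lib.Helper73.BSW
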