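import Mathlib
import Cfsg.Agent.Lib.Helper73.BSW.Defs

/-!
# Brauer–Suzuki–Wall ladder: conjugating the configuration
-/

set_option autoImplicit false

namespace Cfsg.Agent.Lib.Helper73.BSW

universe u

section
variable {G : Type u} [Group G] {K H : Subgroup G} {t : G}

theorem mem_map_conj_iff (A : Subgroup G) (g x : G) :
    x ∈ A.map (MulAut.conj g).toMonoidHom ↔ g⁻¹ * x * g ∈ A := by
  constructor
  · rintro ⟨a, ha, rfl⟩
    have : g⁻¹ * ((MulAut.conj g).toMonoidHom a) * g = a := by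
      simp [MulAut.conj_apply, mul_assoc]
    rw [this]; exact ha
  · intro h
    refine ⟨g⁻¹ * x * g, h, ?_⟩
    simp [MulAut.conj_apply, mul_assoc]

theorem orderOf_conj' (g x : G) : orderOf (g * x * g⁻¹) = orderOf x := by
  have := (MulAut.conj g).orderOf_eq x
  rwa [MulAut.conj_apply] at this

theorem orderOf_conj'' (g x : G) : orderOf (g⁻¹ * x * g) = orderOf x := by
  have := orderOf_conj' g⁻¹ x
  rwa [inv_inv] at this

theorem cfg_conj (B : Cfg K H t) (g : G) :
    Cfg (K.map (MulAut.conj g).toMonoidHom) (H.map (MulAut.conj g).toMonoidHom) (g * t * g⁻¹) := by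
  have hinj : ∀ x y : G, g⁻¹ * x * g = g⁻¹ * y * g → x = y := by
    intro x y h
    have := mul_right_cancel h
    exact mul_left_cancel this
  refine
    { ot := ?_, tK := ?_, comm := ?_, KH := ?_, cent := ?_, ex := ?_, mulK := ?_, invol := ?_,
      inv := ?_, uniq := ?_, ti := ?_, cj := ?_ }
  · rw [orderOf_conj']; exact B.ot
  · rw [mem_map_conj_iff]
    have : g⁻¹ * (g * t * g⁻¹) * g = t := by group
    rw [this]; exact B.tK
  · intro a ha b hb
    rw [mem_map_conj_iff] at ha hb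
    have := B.comm _ ha _ hb
    apply hinj
    calc g⁻¹ * (a * b) * g = (g⁻¹ * a * g) * (g⁻¹ * b * g) := by group
      _ = (g⁻¹ * b * g) * (g⁻¹ * a * g) := this
      _ = g⁻¹ * (b * a) * g := by group
  · exact Subgroup.map_mono B.KH
  · ext x
    rw [mem_map_conj_iff, ← B.cent, Subgroup.mem_centralizer_singleton_iff,
      Subgroup.mem_centralizer_singleton_iff]
    constructor
    · intro h
      calc g⁻¹ * x * g * t = g⁻¹ * (x * (g * t * g⁻¹)) * g := by group
        _ = g⁻¹ * ((g * t * g⁻¹) * x) * g := by rw [h]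
        _ = t * (g⁻¹ * x * g) := by group
    · intro h
      calc x * (g * t * g⁻¹) = g * (g⁻¹ * x * g * t) * g⁻¹ := by group
        _ = g * (t * (g⁻¹ * x * g)) * g⁻¹ := by rw [h]
        _ = g * t * g⁻¹ * x := by group
  · obtain ⟨s, hsH, hsK⟩ := B.ex
    refine ⟨g * s * g⁻¹, ?_, ?_⟩
    · rw [mem_map_conj_iff]
      have : g⁻¹ * (g * s * g⁻¹) * g = s := by group
      rw [this]; exact hsH
    · rw [mem_map_conj_iff]
      have : g⁻¹ * (g * s * g⁻¹) * g = s := by group
      rw [this]; exact hsK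
  · intro x hx hxK y hy hyK
    rw [mem_map_conj_iff] at hx hxK hy hyK ⊢
    have := B.mulK _ hx hxK _ hy hyK
    have e : g⁻¹ * (x * y) * g = (g⁻¹ * x * g) * (g⁻¹ * y * g) := by group
    rw [e]; exact this
  · intro x hx hxK
    rw [mem_map_conj_iff] at hx hxK
    have := B.invol _ hx hxK
    rwa [orderOf_conj''] at this
  · intro x hx hxK c hc
    rw [mem_map_conj_iff] at hx hxK hc
    have := B.inv _ hx hxK _ hc
    apply hinj
    calc g⁻¹ * (x * c * x⁻¹) * g = (g⁻¹ * x * g) * (g⁻¹ * c * g) * (g⁻¹ * x * g)⁻¹ := by group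
      _ = (g⁻¹ * c * g)⁻¹ := this
      _ = g⁻¹ * c⁻¹ * g := by group
  · intro c hc hc2
    rw [mem_map_conj_iff] at hc
    have := B.uniq _ hc (by rw [orderOf_conj'']; exact hc2)
    apply hinj
    rw [this]; group
  · intro c hc hc1 x hx
    rw [mem_map_conj_iff] at hc hx ⊢
    have h1 : g⁻¹ * c * g ≠ 1 := by
      intro h
      apply hc1
      apply hinj
      rw [h]; group
    apply B.ti _ hc h1
    have e : g⁻¹ * x * g * (g⁻¹ * c * g) * (g⁻¹ * x * g)⁻¹ = g⁻¹ * (x * c * x⁻¹) * g := by group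
    rw [e]; exact hx
  · intro s hs
    have h1 := B.cj s hs
    have h2 : IsConj t (g * t * g⁻¹) := isConj_iff.2 ⟨g, rfl⟩
    exact h2.symm.trans h1

theorem conjIn_map_iff (g y : G) : ConjIn (K.map (MulAut.conj g).toMonoidHom) y ↔ ConjIn K y := by
  constructor
  · rintro ⟨x, hx⟩
    rw [mem_map_conj_iff] at hx
    refine ⟨g⁻¹ * x, ?_⟩
    have e : g⁻¹ * x * y * (g⁻¹ * x)⁻¹ = g⁻¹ * (x * y * x⁻¹) * g := by group
    rw [e]; exact hx
  · rintro ⟨x, hx⟩
    refine ⟨g * x, ?_⟩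
    rw [mem_map_conj_iff]
    have e : g⁻¹ * (g * x * y * (g * x)⁻¹) * g = x * y * x⁻¹ := by group
    rw [e]; exact hx

theorem conjIn_conj (g y : G) : ConjIn K (g * y * g⁻¹) ↔ ConjIn K y := by
  constructor
  · rintro ⟨x, hx⟩
    refine ⟨x * g, ?_⟩
    have e : x * g * y * (x * g)⁻¹ = x * (g * y * g⁻¹) * x⁻¹ := by group
    rw [e]; exact hx
  · rintro ⟨x, hx⟩
    refine ⟨x * g⁻¹, ?_⟩
    have e : x * g⁻¹ * (g * y * g⁻¹) * (x * g⁻¹)⁻¹ = x * y * x⁻¹ := by group
    rw [e]; exact hx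

theorem sReal_conj (g y : G) : SReal (g * y * g⁻¹) ↔ SReal y := by
  constructor
  · rintro ⟨u, hu, h⟩
    refine ⟨g⁻¹ * u * g, by rw [orderOf_conj'']; exact hu, ?_⟩
    calc g⁻¹ * u * g * y * (g⁻¹ * u * g)⁻¹ = g⁻¹ * (u * (g * y * g⁻¹) * u⁻¹) * g := by group
      _ = g⁻¹ * (g * y * g⁻¹)⁻¹ * g := by rw [h]
      _ = y⁻¹ := by group
  · rintro ⟨u, hu, h⟩
    refine ⟨g * u * g⁻¹, by rw [orderOf_conj']; exact hu, ?_⟩
    calc g * u * g⁻¹ * (g * y * g⁻¹) * (g * u * g⁻¹)⁻¹ = g * (u * y * u⁻¹) * g⁻¹ := by group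
      _ = g * y⁻¹ * g⁻¹ := by rw [h]
      _ = (g * y * g⁻¹)⁻¹ := by group

theorem card_map_conj (A : Subgroup G) (g : G) :
    Nat.card (A.map (MulAut.conj g).toMonoidHom) = Nat.card A :=
  (Nat.card_congr (A.equivMapOfInjective _ (MulAut.conj g).injective).toEquiv).symm

end

section
variable {G : Type u} [Group G] [Fintype G] {K H : Subgroup G} {t : G}

theorem charOut_conj {q : ℕ} {δ : ℤ} {X : G → ℤ} (C : CharOut K q δ X) (g : G) :
    CharOut (K.map (MulAut.conj g).toMonoidHom) q δ X := by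
  classical
  refine
    { hδ := C.hδ, cardK := ?_, cardG := C.cardG, X1 := C.X1, Xcl := C.Xcl, dvd := C.dvd,
      aform := ?_, sumY := ?_ }
  · rw [card_map_conj]; exact C.cardK
  · intro y hy
    rw [conjIn_map_iff] at hy
    exact C.aform y hy
  · have := C.sumY
    rw [← this]
    apply Finset.sum_congr rfl
    intro y _
    by_cases h : ConjIn K y
    · have h' : ConjIn (K.map (MulAut.conj g).toMonoidHom) y := (conjIn_map_iff g y).2 h
      rw [if_pos h, if_pos h']
    · have h' : ¬ ConjIn (K.map (MulAut.conj g).toMonoidHom) y := fun hh => h ((conjIn_map_iff g y).1 hh)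
      rw [if_neg h, if_neg h']

end

end Cfsg.Agent.Lib.Helper73.BSW
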