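import Mathlib
import Cfsg.Agent.Lib.Helper73.BSW.Defs
import Cfsg.Agent.Lib.Helper73.BSW.Defs2
import Cfsg.Agent.Lib.Helper73.BSW.Conj
import Cfsg.Agent.Lib.Helper91.BSWSra
import Cfsg.Agent.Lib.Helper91.BSWSrb
import Cfsg.Agent.Lib.Helper91.BSWOf

/-!
# Brauer–Suzuki–Wall ladder: steps D and T of the case `δ = -1`
-/

set_option autoImplicit false

namespace Cfsg.Agent.Lib.Helper73.BSW

universe u

variable {G : Type u} [Group G] [Fintype G] {K H : Subgroup G} {t : G} {q : ℕ} {X : G → ℤ}

theorem stD (B : Cfg K H t) (C : CharOut K q (-1) X) (h4 : 4 ≤ Nat.card K) (hA : StA K q X) :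
    StD K := by
  intro y hy hs
  obtain ⟨u, hu, huy⟩ := id hs
  obtain ⟨g, hg⟩ := isConj_iff.1 (B.cj u hu)
  have B' := cfg_conj B g
  rw [hg] at B'
  have hy' : ¬ ConjIn (K.map (MulAut.conj g).toMonoidHom) y := fun h => hy ((conjIn_map_iff g y).1 h)
  obtain ⟨huE, -, -, -, hdvd⟩ := Cfsg.Agent.Lib.Helper91.BSW.sr_normalizer B' hy' huy _ _ rfl rfl
  apply Cfsg.Agent.Lib.Helper91.BSW.sr_dprop B' hy' huy
  set A := Subgroup.centralizer ({y} : Set G) with hAdef
  set E := Subgroup.normalizer (A : Set G) ⊓ K.map (MulAut.conj g).toMonoidHom with hE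
  obtain ⟨-, hcA⟩ := hA y hy hs
  have hK := C.cardK
  have hm : Nat.card A + 1 = Nat.card K := by
    have : (2 * (Nat.card K : ℤ)) = (2 * Nat.card A + 1 : ℕ) + 1 := by rw [hcA, hK]; ring
    push_cast at this
    omega
  have hd2 : Nat.card E ∣ Nat.card K := by
    have h1 : Nat.card E ∣ Nat.card (K.map (MulAut.conj g).toMonoidHom) :=
      Subgroup.card_dvd_of_le inf_le_right
    rwa [card_map_conj] at h1
  have hd3 : Nat.card E ∣ 2 := by
    have h1 : Nat.card K = (Nat.card A - 1) + 2 := by omega
    rw [h1] at hd2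
    exact (Nat.dvd_add_right hdvd).1 hd2
  have h2 : 2 ∣ Nat.card E := by
    have := orderOf_dvd_natCard (⟨u, huE⟩ : E)
    rwa [Subgroup.orderOf_mk, hu] at this
  exact Nat.dvd_antisymm hd3 h2

/-- elements of `D ⊔ ⟨u⟩` for an involution `u` inverting `D`. -/
theorem mem_sup_invol {G : Type*} [Group G] (D : Subgroup G) (u : G) (hu : orderOf u = 2)
    (hinv : ∀ d ∈ D, u * d * u⁻¹ = d⁻¹) {g : G} (hg : g ∈ D ⊔ Subgroup.zpowers u) :
    g ∈ D ∨ g * u ∈ D := by
  have huu : u * u = 1 := by rw [← pow_two, ← hu]; exact pow_orderOf_eq_one u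
  have hui : u⁻¹ = u := inv_eq_of_mul_eq_one_left huu
  have hinv' : ∀ d ∈ D, u * d * u = d⁻¹ := by
    intro d hd
    have := hinv d hd
    rwa [hui] at this
  let T : Subgroup G :=
    { carrier := {x | x ∈ D ∨ x * u ∈ D}
      one_mem' := Or.inl D.one_mem
      mul_mem' := by
        rintro a b (ha | ha) (hb | hb)
        · exact Or.inl (D.mul_mem ha hb)
        · right
          rw [mul_assoc]; exact D.mul_mem ha hb
        · right
          have e : a * b * u = (a * u) * (u * b * u) := by
            calc a * b * u = a * (u * u) * b * u := by rw [huu, mul_one]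
              _ = (a * u) * (u * b * u) := by group
          rw [e, hinv' b hb]
          exact D.mul_mem ha (D.inv_mem hb)
        · left
          have e : a * b = (a * u) * (u * (b * u) * u) := by
            calc a * b = a * (u * u) * b * (u * u) := by rw [huu, mul_one, mul_one]
              _ = (a * u) * (u * (b * u) * u) := by group
          rw [e, hinv' _ hb]
          exact D.mul_mem ha (D.inv_mem hb)
      inv_mem' := by
        rintro a (ha | ha)
        · exact Or.inl (D.inv_mem ha)
        · right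
          have e : a⁻¹ * u = (u * (a * u) * u)⁻¹ := by
            calc a⁻¹ * u = (u * u)⁻¹ * a⁻¹ * u⁻¹ := by rw [huu, hui]; simp
              _ = (u * (a * u) * u)⁻¹ := by group
          rw [e, hinv' _ ha, inv_inv]
          exact ha }
  have h1 : D ≤ T := fun x hx => Or.inl hx
  have h2 : Subgroup.zpowers u ≤ T := by
    rw [Subgroup.zpowers_le]
    right
    rw [huu]; exact D.one_mem
  exact (sup_le h1 h2) hg

theorem eq_one_of_odd_of_sq {G : Type*} [Group G] {b : G} (ho : Odd (orderOf b)) (h : b * b = 1) :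
    b = 1 := by
  have h1 : orderOf b ∣ 2 := orderOf_dvd_of_pow_eq_one (by rw [pow_two]; exact h)
  rcases (Nat.dvd_prime Nat.prime_two).1 h1 with h2 | h2
  · exact orderOf_eq_one_iff.1 h2
  · rw [h2] at ho
    exact absurd ho (by decide)

theorem stT_aux (B : Cfg K H t) :
    (∀ b ∈ K, b ≠ 1 → Odd (orderOf b) → Subgroup.centralizer ({b} : Set G) = K) ∧
      ∀ g ∈ Subgroup.normalizer (K : Set G), Odd (orderOf g) → g ∈ K := by
  constructor
  · intro b hb hb1 hodd
    apply le_antisymm
    · intro x hx
      rw [Subgroup.mem_centralizer_singleton_iff] at hx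
      have e : x * b * x⁻¹ = b := by rw [hx]; group
      have hxH : x ∈ H := B.ti b hb hb1 x (by rw [e]; exact hb)
      by_contra hxK
      have := B.inv x hxH hxK b hb
      rw [e] at this
      apply hb1
      apply eq_one_of_odd_of_sq hodd
      calc b * b = b * b⁻¹ := by rw [← this]
        _ = 1 := mul_inv_cancel b
    · intro x hx
      rw [Subgroup.mem_centralizer_singleton_iff]
      exact B.comm x hx b hb
  · intro g hg hodd
    rw [(Cfsg.Agent.Lib.Helper91.BSW.kprop B).2] at hg
    by_contra hgK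
    have := B.invol g hg hgK
    rw [this] at hodd
    exact absurd hodd (by decide)

theorem stT (B : Cfg K H t) (hD : StD K) : StT K := by
  intro z hz1 hzodd hzU
  by_cases hzK : ConjIn K z
  · obtain ⟨g, hg⟩ := hzK
    have B' := cfg_conj B g⁻¹
    obtain ⟨h1, h2⟩ := stT_aux B'
    refine ⟨K.map (MulAut.conj g⁻¹).toMonoidHom, ?_, B'.comm, h1, h2⟩
    rw [mem_map_conj_iff, inv_inv]
    exact hg
  · have hs : SReal z := by
      by_contra hs
      exact hzU ⟨hzK, hs⟩
    have hzz : z ∈ Subgroup.centralizer ({z} : Set G) := by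
      rw [Subgroup.mem_centralizer_singleton_iff]
    refine ⟨Subgroup.centralizer ({z} : Set G), hzz,
      Cfsg.Agent.Lib.Helper91.BSW.sr_comm B hzK hs, ?_, ?_⟩
    · intro b hb hb1 _
      exact Cfsg.Agent.Lib.Helper91.BSW.sr_cent_eq B hzK hs b hb hb1
    · intro g hg hodd
      have hne : Subgroup.centralizer ({z} : Set G) ≠ ⊥ := by
        intro h
        rw [h, Subgroup.mem_bot] at hzz
        exact hz1 hzz
      obtain ⟨-, u, hu, -, hinv, hN⟩ := hD z hzK hs _ le_rfl hne
      rw [hN] at hg
      rcases mem_sup_invol _ u hu hinv hg with h | h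
      · exact h
      · -- `g = d u` is an involution
        have huu : u * u = 1 := by rw [← pow_two, ← hu]; exact pow_orderOf_eq_one u
        have hui : u⁻¹ = u := inv_eq_of_mul_eq_one_left huu
        have h3 := hinv _ h
        rw [hui] at h3
        have h4 : g * g = 1 := by
          have e : u * (g * u) * u = u * g := by rw [mul_assoc, mul_assoc, huu, mul_one]
          rw [e] at h3
          -- u g = (g u)⁻¹ = u⁻¹ g⁻¹ = u g⁻¹
          rw [mul_inv_rev, hui] at h3
          have h5 : g = g⁻¹ := mul_left_cancel h3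
          calc g * g = g * g⁻¹ := by rw [← h5]
            _ = 1 := mul_inv_cancel g
        rw [eq_one_of_odd_of_sq hodd h4]
        exact Subgroup.one_mem _

end Cfsg.Agent.Lib.Helper73.BSW
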