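import Mathlib
import Cfsg.Agent.Lib.Helper73.BSW.Defs
import Cfsg.Agent.Lib.Helper73.BSW.Defs2
import Cfsg.Agent.Lib.Helper73.BSW.StepD
import Cfsg.Agent.Lib.Helper4.BSWMa
import Cfsg.Agent.Lib.Helper4.BSWMbc
import Cfsg.Agent.Lib.Helper19.BSWMe
import Cfsg.Agent.Lib.Helper19.BSWMf
import Cfsg.Agent.Lib.Helper19.BSWMg
import Cfsg.Agent.Lib.Helper91.BSWMh

/-!
# Brauer–Suzuki–Wall: the case `δ = -1`
-/

set_option autoImplicit false

namespace Cfsg.Agent.Lib.Helper73.BSW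

universe u

variable {G : Type u} [Group G] [Fintype G] {K H : Subgroup G} {t : G}

theorem minus {q : ℕ} {X : G → ℤ} (B : Cfg K H t) (C : CharOut K q (-1) X) (h4 : 4 ≤ Nat.card K) :
    Concl G := by
  have hA := Cfsg.Agent.Lib.Helper4.BSW.stA B C h4
  have hB := Cfsg.Agent.Lib.Helper4.BSW.stB B C h4 hA
  have hC := Cfsg.Agent.Lib.Helper4.BSW.stC B C h4 hB
  have hD := stD B C h4 hA
  have hE := Cfsg.Agent.Lib.Helper19.BSW.stE B C h4 hA hB hC
  obtain ⟨p, hF⟩ := Cfsg.Agent.Lib.Helper19.BSW.stF B C h4 hB hE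
  have hT := stT B hD
  have hG := Cfsg.Agent.Lib.Helper19.BSW.stG B C h4 hA hT hF
  exact Cfsg.Agent.Lib.Helper91.BSW.minus_final B C h4 hA hB hD hE hT hF hG

end Cfsg.Agent.Lib.Helper73.BSW
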