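import Mathlib
import Cfsg.Agent.Lib.Helper73.BSW.Defs
import Cfsg.Agent.Lib.Helper73.BSW.CharMain
import Cfsg.Agent.Lib.Helper73.BSW.Minus
import Cfsg.Agent.Lib.Helper4.BSWPlus
import Cfsg.Agent.Lib.Helper69.BSWM2
import Cfsg.Agent.Lib.Helper91.BSWOf

/-!
# The Brauer–Suzuki–Wall theorem (abstract form)
-/

set_option autoImplicit false

namespace Cfsg.Agent.Lib.Helper73.BSW

universe u

/-- **Brauer–Suzuki–Wall**: the configuration `Cfg K H t` forces the `PSL₂(q)`-like structure
`Concl G`. -/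
theorem main {G : Type u} [Group G] [Finite G] {K H : Subgroup G} {t : G} (B : Cfg K H t) :
    Concl G := by
  classical
  have : Fintype G := Fintype.ofFinite G
  by_cases h2 : Nat.card K = 2
  · exact Cfsg.Agent.Lib.Helper69.BSW.concl_of_card_two B h2
  · have hev := Cfsg.Agent.Lib.Helper91.BSW.even_card_K B
    have hpos : 0 < Nat.card K := Nat.card_pos
    have h4 : 4 ≤ Nat.card K := by
      obtain ⟨r, hr⟩ := hev
      omega
    obtain ⟨q, δ, Xz, C⟩ := char_main B h4
    rcases C.hδ with rfl | rfl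
    · exact Cfsg.Agent.Lib.Helper4.BSW.plus B C h4
    · exact minus B C h4

end Cfsg.Agent.Lib.Helper73.BSW
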