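import Mathlib
import Cfsg.Prelude.Def_CaseTheorems
import Cfsg.Prelude.Def_LieExceptional
import Cfsg.Agent.Lib.Helper73.BSW.Defs
import Cfsg.Agent.Lib.Helper73.ZassMain
import Cfsg.Agent.Lib.Helper71.BSWQdkey
import Cfsg.Agent.Lib.Helper71.BSWQdreg
import Cfsg.Agent.Lib.Helper71.BSWQdpt
import Cfsg.Agent.Lib.Helper71.BSWQdz

/-!
# From the conclusion of Brauer–Suzuki–Wall to `PSL₂(q)`
-/

set_option autoImplicit false

namespace Cfsg.Agent.Lib.Helper73.BSW

open Cfsg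
open Cfsg.Agent.Lib.Helper71.BSW

theorem psl2_of_concl {G : Type*} [Group G] [Finite G] [IsSimpleGroup G] (h : Concl G) :
    ∃ (F : Type) (_ : Field F) (_ : Fintype F), Odd (Fintype.card F) ∧
      Nonempty (G ≃* Matrix.ProjectiveSpecialLinearGroup (Fin 2) F) := by
  obtain ⟨Q, D, hG, hcent, -, hD, hdisj, hN, hprop⟩ := h
  have hD1 : D ≠ ⊥ := qd_D_ne_bot Q D hG hcent hD hN
  obtain ⟨hab, hNc, hfac, hTI⟩ := qd_key Q D hcent hD hdisj hN
  have hcq := qd_card_quot Q D hG hD hNc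
  have hreg := qd_reg Q hcq hTI
  have h2t := qd_two_trans Q hcq hreg
  obtain ⟨-, u, -, huD, hinv, -⟩ := hprop D le_rfl hD1
  obtain ⟨ho, hst, h3⟩ := qd_two_point Q D hcent hdisj hN hD1 hfac hreg u huD hinv
  have hZ := qd_zass Q D hD1 hcq h2t _ ho hst h3
  have hstab : MulAction.stabilizer G ((1 : G) : G ⧸ Subgroup.normalizer (Q : Set G))
      = Subgroup.normalizer (Q : Set G) := by
    rw [MulAction.stabilizer_quotient]
  have hFle : Q ≤ MulAction.stabilizer G ((1 : G) : G ⧸ Subgroup.normalizer (Q : Set G)) := by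
    rw [hstab]; exact Subgroup.le_normalizer
  have hFn : (Q.subgroupOf
      (MulAction.stabilizer G ((1 : G) : G ⧸ Subgroup.normalizer (Q : Set G)))).Normal := by
    rw [hstab]; exact Subgroup.normal_in_normalizer
  have hcard : 2 * Nat.card ↥(MulAction.stabilizer G ((1 : G) : G ⧸ Subgroup.normalizer (Q : Set G)) ⊓
      MulAction.stabilizer G (u • ((1 : G) : G ⧸ Subgroup.normalizer (Q : Set G)))) + 2
      = Nat.card (G ⧸ Subgroup.normalizer (Q : Set G)) := by
    rw [hst, hcq]; omega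
  obtain ⟨F, iF, iFf, hc, -, hI⟩ :=
    Cfsg.Agent.Lib.Helper73.ZassMain.zass_psl2 hZ ho.symm Q hFle hFn hab hreg hcard
  refine ⟨F, iF, iFf, ?_, hI⟩
  rw [hcq] at hc
  exact ⟨Nat.card D, by omega⟩

end Cfsg.Agent.Lib.Helper73.BSW
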